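import Cfsg.Agent.H0.SS
import Cfsg.Agent.H0.MW2.D
set_option maxRecDepth 100000
set_option Elab.async false
set_option linter.unusedSectionVars false
namespace H0.YW2
open H0 BN 
open H0.MW2 (R)
end H0.YW2
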