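import Cfsg.Agent.H0.YW2.D
set_option maxRecDepth 100000
set_option Elab.async false
set_option linter.unusedSectionVars false
namespace H0.YW2
open H0 BN 
open H0.MW2 (R)
theorem c0 : Model.fixP R [5, 46, 29, 0] [[10], [11]] = true := by decide +kernel
theorem c1 : Model.growP R [[10], [11]] [0, 1] 13 4 = true := by decide +kernel
theorem c2 : Model.fixP R [46, 29, 0] [[6], [7], [8], [9]] = true := by decide +kernel
theorem c3 : Model.growP R [[6], [7], [8], [9]] [0, 1, 2] 5 8 = true := by decide +kernel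
theorem c4 : Model.fixP R [29, 0] [[4], [5]] = true := by decide +kernel
theorem c5 : Model.growP R [[4], [5]] [0, 1, 0, 1, 1, 0, 1] 46 18 = true := by decide +kernel
theorem c6 : Model.fixP R [0] [[2], [3]] = true := by decide +kernel
theorem c7 : Model.growP R [[2], [3]] [0, 1, 0, 1, 0, 1, 0, 1, 0, 0] 29 35 = true := by decide +kernel
theorem c8 : Model.fixP R [] [[0], [1]] = true := by decide +kernel
theorem c9 : Model.growP R [[0], [1]] [0, 1, 0, 1, 0, 1, 0, 1, 0, 1, 0] 0 64 = true := by decide +kernel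
theorem c10 : Model.invB R (Model.cgens (ch.drop 4)) 122880 = true := by decide +kernel
theorem c11 : levB R (nat_lit 64) (nat_lit 6) [5, 46, 29, 0] 13 122880 0xffef7cefae78df6d74cf2c70beeb6caeaa689e69648e28607de75c6da6585d65544d24503ce34c2ca2481c61440c2040 [([10], 0xffef7cebbe39df5db4cf2c6fc2eaabb2d9a7a298a392579f82175969b71559761149350d38f40c2c9288187143101080), ([11], 0xfbff3debbe39df5db3d32c70beeb2daaba299a79258a382179f75b71969761559351148f40d38b3092881c61440c2040)] p4 T4 = true := by decide +kernel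
theorem c12 : (prodL (nat_lit 64) (nat_lit 6) T4 L5 == L4) = true := by decide +kernel
theorem c13 : Model.invB R (Model.cgens (ch.drop 3)) 8160 = true := by decide +kernel
theorem c14 : levB R (nat_lit 64) (nat_lit 6) [46, 29, 0] 5 8160 0xffef7cefae78df6d74cf2c70beeb6caeaa689e69648e28607de75c6da6585d65544d24503ce34c2ca2481c61440c2040 [([6], 0xf3dfbfe39ebbdf3d35db0bf2c6eb2d9e6a29aea8218e29257de75761a65b71655350e34f41244928b3072051840c2040), ([7], 0xf7cffee78efadf3d35dafc31caea29aeab2d9e69257de8218e275b71655761a64f41245350e34928b3061481c40c2040), ([8], 0xf3dfbfefae78df1cb0bf5db4ceeae7b69aa6b289618df92089e7576d565871668d44f4ce49050718520930b281083100), ([9], 0xf7cffee39ebbdf4cf5dafc32c6eaaba689a7b6c79f9648a386075559c6d96985d14903cd3944c928c2c62051c3101080)] p3 T3 = true := by decide +kernel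
theorem c15 : (prodL (nat_lit 64) (nat_lit 6) T3 L4 == L3) = true := by decide +kernel
theorem c16 : Model.invB R (Model.cgens (ch.drop 2)) 18446673704965373952 = true := by decide +kernel
theorem c17 : levB R (nat_lit 64) (nat_lit 6) [29, 0] 46 18446673704965373952 0xffef7cefae78df6d74cf2c70beeb6caeaa689e69648e28607de75c6da6585d65544d24503ce34c2ca2481c61440c2040 [([4], 0xc2fcf4bb7e78eb1cbcf75dbffbbb62ae48667e896a8eca5e9e07546526d83563dc45a4d054e5c40ca24804214c2c61c0), ([5], 0xebbc2fc72ffecfdf38e77bb6d7496189eae7b28aa6b699208df7576d668d45050e48f4d871564718520b0c430108a240)] p2 T2 = true := by decide +kernel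
theorem c18 : (prodL (nat_lit 64) (nat_lit 6) T2 L3 == L2) = true := by decide +kernel
theorem c19 : Model.invB R (Model.cgens (ch.drop 1)) 18446744073172680704 = true := by decide +kernel
theorem c20 : levB R (nat_lit 64) (nat_lit 6) [0] 29 18446744073172680704 0xffef7cefae78df6d74cf2c70beeb6caeaa689e69648e28607de75c6da6585d65544d24503ce34c2ca2481c61440c2040 [([2], 0xc9de768a7a64e268f4ff3fa5a35830bedf6b7bcb37ba1eea7fac4a68d25c2053cc64e2d00816c41d84c34561945d5480), ([3], 0x9b3a71de1f5e8e7d7b7f0b62e3ef3476ccaeaffa20ab9eb696f91a48440704955470b5994571426d318a6033483cc380)] p1 T1 = true := by decide +kernel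
theorem c21 : Model.repB R (nat_lit 64) (nat_lit 6) 64 [[2], [3]] X = true := by decide +kernel
theorem c22 : Model.invB R (Model.cgens ch) (2 ^ 64 - 1) = true := by decide +kernel
theorem c23 : specB (nat_lit 64) (nat_lit 6) (nat_lit 15) (nat_lit 38398) [13, 5, 46, 29, 0] (X.map (·.1.2)) U17 L2 = true := by decide +kernel
theorem c24 : specB (nat_lit 64) (nat_lit 6) (nat_lit 15) (nat_lit 38398) [13, 5, 46, 29, 0] (X.map (·.1.2)) (U16.take 2) L2 = true := by decide +kernel
theorem c25 : specB (nat_lit 64) (nat_lit 6) (nat_lit 15) (nat_lit 38398) [13, 5, 46, 29, 0] (X.map (·.1.2)) (U15.take 2) L2 = true := by decide +kernel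
theorem c26 : specB (nat_lit 64) (nat_lit 6) (nat_lit 15) (nat_lit 38398) [13, 5, 46, 29, 0] (X.map (·.1.2)) (U14.take 2) L2 = true := by decide +kernel
theorem c27 : specB (nat_lit 64) (nat_lit 6) (nat_lit 15) (nat_lit 38398) [13, 5, 46, 29, 0] (X.map (·.1.2)) (U13.take 2) L2 = true := by decide +kernel
theorem c28 : specB (nat_lit 64) (nat_lit 6) (nat_lit 15) (nat_lit 38398) [13, 5, 46, 29, 0] (X.map (·.1.2)) (U12.take 2) L2 = true := by decide +kernel
theorem c29 : specB (nat_lit 64) (nat_lit 6) (nat_lit 15) (nat_lit 38398) [13, 5, 46, 29, 0] (X.map (·.1.2)) (U11.take 2) L2 = true := by decide +kernel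
theorem c30 : specB (nat_lit 64) (nat_lit 6) (nat_lit 15) (nat_lit 38398) [13, 5, 46, 29, 0] (X.map (·.1.2)) (U10.take 2) L2 = true := by decide +kernel
theorem c31 : specB (nat_lit 64) (nat_lit 6) (nat_lit 15) (nat_lit 38398) [13, 5, 46, 29, 0] (X.map (·.1.2)) (U9.take 2) L2 = true := by decide +kernel
theorem c32 : specB (nat_lit 64) (nat_lit 6) (nat_lit 15) (nat_lit 38398) [13, 5, 46, 29, 0] (X.map (·.1.2)) (U8.take 2) L2 = true := by decide +kernel
theorem c33 : specB (nat_lit 64) (nat_lit 6) (nat_lit 15) (nat_lit 38398) [13, 5, 46, 29, 0] (X.map (·.1.2)) (U7.take 2) L2 = true := by decide +kernel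
theorem c34 : specB (nat_lit 64) (nat_lit 6) (nat_lit 15) (nat_lit 38398) [13, 5, 46, 29, 0] (X.map (·.1.2)) (U6.take 2) L2 = true := by decide +kernel
theorem c35 : specB (nat_lit 64) (nat_lit 6) (nat_lit 15) (nat_lit 38398) [13, 5, 46, 29, 0] (X.map (·.1.2)) (U5.take 2) L2 = true := by decide +kernel
end H0.YW2
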