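import Cfsg.Agent.H0.YW2.K0
import Cfsg.Agent.H0.YW2.K1
set_option maxRecDepth 100000
set_option Elab.async false
set_option linter.unusedSectionVars false
namespace H0.YW2
open H0 BN 
open H0.MW2 (R)
universe u
variable {G : Type u} [Group G] [Finite G] (m0 : Model G) (h0 : m0.R = R) (hb : m0.pst [13, 5, 46, 29, 0] = ⊥) (hc : Nat.card G = 1290240)
include h0 hb hc
theorem base : m0.pst [13, 5, 46, 29, 0] = ⊥ := hb
omit hb hc in
theorem ch_ok : m0.ChainOK ch [] := (m0.chain_cons [0, 1, 0, 1, 0, 1, 0, 1, 0, 1, 0] (Model.via _ h0 (fun R => Model.fixP R [] [[0], [1]]) c8) (Model.via _ h0 (fun R => Model.growP R [[0], [1]] [0, 1, 0, 1, 0, 1, 0, 1, 0, 1, 0] 0 64) c9) (m0.chain_cons [0, 1, 0, 1, 0, 1, 0, 1, 0, 0] (Model.via _ h0 (fun R => Model.fixP R [0] [[2], [3]]) c6) (Model.via _ h0 (fun R => Model.growP R [[2], [3]] [0, 1, 0, 1, 0, 1, 0, 1, 0, 0] 29 35) c7) (m0.chain_cons [0, 1, 0, 1, 1, 0, 1] (Model.via _ h0 (fun R => Model.fixP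 R [29, 0] [[4], [5]]) c4) (Model.via _ h0 (fun R => Model.growP R [[4], [5]] [0, 1, 0, 1, 1, 0, 1] 46 18) c5) (m0.chain_cons [0, 1, 2] (Model.via _ h0 (fun R => Model.fixP R [46, 29, 0] [[6], [7], [8], [9]]) c2) (Model.via _ h0 (fun R => Model.growP R [[6], [7], [8], [9]] [0, 1, 2] 5 8) c3) (m0.chain_cons [0, 1] (Model.via _ h0 (fun R => Model.fixP R [5, 46, 29, 0] [[10], [11]]) c0) (Model.via _ h0 (fun R => Model.growP R [[10], [11]] [0, 1] 13 4) c1) (m0.chain_nil _))))))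
theorem E5 : m0.Enum (nat_lit 64) (nat_lit 6) [13, 5, 46, 29, 0] L5 := m0.enum_base (base m0 h0 hb hc) (by decide +kernel)
theorem I4 : m0.Inv (m0.pst [5, 46, 29, 0]) 122880 := ((m0.chain_pst (ch_ok m0 h0) (hc.trans (by decide +kernel)) 4).symm ▸ m0.inv_of_invB (Model.via _ h0 (fun R => Model.invB R (Model.cgens (ch.drop 4)) 122880) c10) :)
theorem F4 : m0.Enum2 (nat_lit 64) (nat_lit 6) [5, 46, 29, 0] T4 L5 := m0.enum_step (I4 m0 h0 hb hc) (Model.via _ h0 (fun R => levB R (nat_lit 64) (nat_lit 6) [5, 46, 29, 0] 13 122880 0xffef7cefae78df6d74cf2c70beeb6caeaa689e69648e28607de75c6da6585d65544d24503ce34c2ca2481c61440c2040 [([10], 0xffef7cebbe39df5db4cf2c6fc2eaabb2d9a7a298a392579f82175969b71559761149350d38f40c2c9288187143101080), ([11], 0xfbff3debbe39df5db3d32c70beeb2daaba299a79258a382179f75b71969761559351148f40d38b3092881c61440c2040)] p4 T4) c11) (E5 m0 h0 hb hc)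
theorem E4 : m0.Enum (nat_lit 64) (nat_lit 6) [5, 46, 29, 0] L4 := (F4 m0 h0 hb hc).enum (eq_of_beq c12)
theorem I3 : m0.Inv (m0.pst [46, 29, 0]) 8160 := ((m0.chain_pst (ch_ok m0 h0) (hc.trans (by decide +kernel)) 3).symm ▸ m0.inv_of_invB (Model.via _ h0 (fun R => Model.invB R (Model.cgens (ch.drop 3)) 8160) c13) :)
theorem F3 : m0.Enum2 (nat_lit 64) (nat_lit 6) [46, 29, 0] T3 L4 := m0.enum_step (I3 m0 h0 hb hc) (Model.via _ h0 (fun R => levB R (nat_lit 64) (nat_lit 6) [46, 29, 0] 5 8160 0xffef7cefae78df6d74cf2c70beeb6caeaa689e69648e28607de75c6da6585d65544d24503ce34c2ca2481c61440c2040 [([6], 0xf3dfbfe39ebbdf3d35db0bf2c6eb2d9e6a29aea8218e29257de75761a65b71655350e34f41244928b3072051840c2040), ([7], 0xf7cffee78efadf3d35dafc31caea29aeab2d9e69257de8218e275b71655761a64f41245350e34928b3061481c40c2040), ([8], 0xf3dfbfefae78df1cb0bf5db4ceeae7b69aa6b289618df92089e7576d565871668d44f4ce49050718520930b281083100), ([9], 0xf7cffee39ebbdf4cf5dafc32c6eaaba689a7b6c79f9648a386075559c6d96985d14903cd3944c928c2c62051c3101080)]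 p3 T3) c14) (E4 m0 h0 hb hc)
theorem E3 : m0.Enum (nat_lit 64) (nat_lit 6) [46, 29, 0] L3 := (F3 m0 h0 hb hc).enum (eq_of_beq c15)
theorem I2 : m0.Inv (m0.pst [29, 0]) 18446673704965373952 := ((m0.chain_pst (ch_ok m0 h0) (hc.trans (by decide +kernel)) 2).symm ▸ m0.inv_of_invB (Model.via _ h0 (fun R => Model.invB R (Model.cgens (ch.drop 2)) 18446673704965373952) c16) :)
theorem F2 : m0.Enum2 (nat_lit 64) (nat_lit 6) [29, 0] T2 L3 := m0.enum_step (I2 m0 h0 hb hc) (Model.via _ h0 (fun R => levB R (nat_lit 64) (nat_lit 6) [29, 0] 46 18446673704965373952 0xffef7cefae78df6d74cf2c70beeb6caeaa689e69648e28607de75c6da6585d65544d24503ce34c2ca2481c61440c2040 [([4], 0xc2fcf4bb7e78eb1cbcf75dbffbbb62ae48667e896a8eca5e9e07546526d83563dc45a4d054e5c40ca24804214c2c61c0), ([5], 0xebbc2fc72ffecfdf38e77bb6d7496189eae7b28aa6b699208df7576d668d45050e48f4d871564718520b0c430108a240)] p2 T2) c17) (E3 m0 h0 hb hc)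
theorem E2 : m0.Enum (nat_lit 64) (nat_lit 6) [29, 0] L2 := (F2 m0 h0 hb hc).enum (eq_of_beq c18)
theorem I1 : m0.Inv (m0.pst [0]) 18446744073172680704 := ((m0.chain_pst (ch_ok m0 h0) (hc.trans (by decide +kernel)) 1).symm ▸ m0.inv_of_invB (Model.via _ h0 (fun R => Model.invB R (Model.cgens (ch.drop 1)) 18446744073172680704) c19) :)
theorem F1 : m0.Enum2 (nat_lit 64) (nat_lit 6) [0] T1 L2 := m0.enum_step (I1 m0 h0 hb hc) (Model.via _ h0 (fun R => levB R (nat_lit 64) (nat_lit 6) [0] 29 18446744073172680704 0xffef7cefae78df6d74cf2c70beeb6caeaa689e69648e28607de75c6da6585d65544d24503ce34c2ca2481c61440c2040 [([2], 0xc9de768a7a64e268f4ff3fa5a35830bedf6b7bcb37ba1eea7fac4a68d25c2053cc64e2d00816c41d84c34561945d5480), ([3], 0x9b3a71de1f5e8e7d7b7f0b62e3ef3476ccaeaffa20ab9eb696f91a48440704955470b5994571426d318a6033483cc380)] p1 T1) c20) (E2 m0 h0 hb hc)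
theorem reps : m0.Reps (nat_lit 64) (nat_lit 6) (X.map (·.1.2)) :=
  m0.reps_of (m0.lt_of_inv ((m0.chain_top (ch_ok m0 h0) (hc.trans (by decide +kernel))) ▸ m0.inv_of_invB (Model.via _ h0 (fun R => Model.invB R (Model.cgens ch) (2 ^ 64 - 1)) c22) :) (by decide)) [[2], [3]] (Model.via _ h0 (fun R => Model.repB R (nat_lit 64) (nat_lit 6) 64 [[2], [3]] X) c21)
omit h0 hb hc in
theorem sl : Model.SpecLe (nat_lit 64) (nat_lit 6) (nat_lit 15) (nat_lit 38398) [13, 5, 46, 29, 0] (X.map (·.1.2)) U0 L2 := (List.take_append_drop 2 U0 ▸ (Model.specLe_of c40).app (List.take_append_drop 2 U1 ▸ (Model.specLe_of c39).app (List.take_append_drop 2 U2 ▸ (Model.specLe_of c38).app (List.take_append_drop 2 U3 ▸ (Model.specLe_of c37).app (List.take_append_drop 2 U4 ▸ (Model.specLe_of c36).app (List.take_append_drop 2 U5 ▸ (Model.specLe_of c35).app (List.take_append_drop 2 U6 ▸ (Model.specLe_of c34).app (List.take_append_drop 2 U7 ▸ (Model.specLe_of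 c33).app (List.take_append_drop 2 U8 ▸ (Model.specLe_of c32).app (List.take_append_drop 2 U9 ▸ (Model.specLe_of c31).app (List.take_append_drop 2 U10 ▸ (Model.specLe_of c30).app (List.take_append_drop 2 U11 ▸ (Model.specLe_of c29).app (List.take_append_drop 2 U12 ▸ (Model.specLe_of c28).app (List.take_append_drop 2 U13 ▸ (Model.specLe_of c27).app (List.take_append_drop 2 U14 ▸ (Model.specLe_of c26).app (List.take_append_drop 2 U15 ▸ (Model.specLe_of c25).app (List.take_append_drop 2 U16 ▸ (Model.specLe_of c24).app (Model.specLe_of c23) :) :) :) :) :) :) :) :) :) :) :) :) :) :) :) :) :)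
theorem spec : Set.range (orderOf : G → ℕ) = {d | d ∈ [1, 2, 3, 4, 5, 6, 7, 8, 10, 12, 15]} :=
  m0.spec_eq (base m0 h0 hb hc) (m0.spec_le (base m0 h0 hb hc) (by decide) (reps m0 h0 hb hc) (F1 m0 h0 hb hc) sl) (Model.via _ h0 (fun R => H6.allL (ordB R [13, 5, 46, 29, 0]) E) c41) (K := 16) (by decide +kernel)
theorem sn : ∃ K : Subgroup G, K.Normal ∧ K ≠ ⊥ ∧ Group.IsSolvable K :=
  have := m0.solv_normal (m0.chain_top (ch_ok m0 h0) (hc.trans (by decide +kernel))) snE (all_take_done (all_take_step (all_take_zero _ ((((Model.cgens ch).flatMap fun s => snV.map fun v => (s, v)).zip snE).map fun e => (e.1.1 ++ e.1.2, subst snV e.2 ++ e.1.1))) (m0.pairs_of (base m0 h0 hb hc) (Model.via _ h0 (fun R => pairsB R [13, 5, 46, 29, 0] ((((((Model.cgens ch).flatMap fun s => snV.map fun v => (s, v)).zip snE).map fun e => (e.1.1 ++ e.1.2, subst snV e.2 ++ e.1.1)).drop 0).take 72)) c42))) (by decide +kernel)) (by decide +kernel)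
    (all_take_done (all_take_step (all_take_zero _ (snV.flatMap fun s => snV.map fun v => (s ++ v, v ++ s))) (m0.pairs_of (base m0 h0 hb hc) (Model.via _ h0 (fun R => pairsB R [13, 5, 46, 29, 0] (((snV.flatMap fun s => snV.map fun v => (s ++ v, v ++ s)).drop 0).take 36)) c43))) (by decide +kernel))
  ⟨_, this.1, fun h => ne_one_of_movB (Model.via _ h0 (fun R => movB R [0, 0, 0, 0, 0, 0, 2, 2, 3, 2, 2, 5, 5, 4, 5, 8]) c44) (by
    rw [← m0.φ_ev, Subgroup.mem_bot.1 (h.le (mem_gen _ (by decide +kernel))), map_one]), this.2⟩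
end H0.YW2
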